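import Groth.Agent.RankOneComm.Coord
import Mathlib.Algebra.DualNumber

/-! First-order constants of a rank-one system and the identities they impose on the coordinates. -/

set_option autoImplicit false
set_option linter.style.haveILetI false

universe u

open CategoryTheory CategoryTheory.Limits AlgebraicGeometry MonoidalCategory CartesianMonoidalCategory
open scoped MonObj
open Groth.Agent.GrpSchLib Groth.Agent.GrpSchLib.RankOne
open TrivSqZeroExt (inl inr fst snd inlHom)

noncomputable section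

namespace Groth.Agent.RankOneComm

variable {S : Scheme.{u}} {A B : Type u} [CommRing A] [CommRing B] (b : Spec (CommRingCat.of A) ⟶ S)
  {b' : Spec (CommRingCat.of B) ⟶ S}

/-- Dual numbers. -/
abbrev Eps (A : Type u) : Type u := TrivSqZeroExt A A

/-- The dual numbers over a test base. -/
def dbase : Spec (CommRingCat.of (Eps A)) ⟶ S := Spec.map (CommRingCat.ofHom (inlHom A A)) ≫ b

theorem dbase_inl : Spec.map (CommRingCat.ofHom (inlHom A A)) ≫ b = dbase b := rfl

/-- The reduction of dual numbers. -/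
def fstR (A : Type u) [CommRing A] : Eps A →+* A := (TrivSqZeroExt.fstHom A A A).toRingHom

theorem dbase_fst : Spec.map (CommRingCat.ofHom (fstR A)) ≫ dbase b = b := by
  rw [dbase, Dat.base_comp]
  exact Dat.base_id b (RingHom.ext fun a => rfl)

theorem fst_spec_surjective : Function.Surjective (Spec.map (CommRingCat.ofHom (fstR A))) := fun z => by
  let z : PrimeSpectrum (Eps A) := z
  refine ⟨(⟨z.asIdeal.comap (inlHom A A), inferInstance⟩ : PrimeSpectrum A),
    PrimeSpectrum.ext (Ideal.ext fun r => ?_)⟩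
  show inl (fst r) ∈ z.asIdeal ↔ r ∈ z.asIdeal
  have hn : (inr (snd r) : Eps A) ∈ z.asIdeal :=
    z.isPrime.mem_of_pow_mem 2 (by rw [pow_two, TrivSqZeroExt.inr_mul_inr]; exact zero_mem _)
  conv_rhs => rw [← TrivSqZeroExt.inl_fst_add_inr_snd_eq r]
  exact (Ideal.add_mem_iff_left _ hn).symm

/-- Rescaling the nilpotent. -/
def scaleEps (w : A) : Eps A →+* Eps A :=
  (TrivSqZeroExt.map (R' := A) (w • LinearMap.id : A →ₗ[A] A)).toRingHom

@[simp] theorem fst_scaleEps (w : A) (r : Eps A) : fst (scaleEps w r) = fst r :=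
  TrivSqZeroExt.fst_map _ _

@[simp] theorem snd_scaleEps (w : A) (r : Eps A) : snd (scaleEps w r) = w * snd r :=
  TrivSqZeroExt.snd_map _ _

theorem dbase_scale (w : A) : Spec.map (CommRingCat.ofHom (scaleEps w)) ≫ dbase b = dbase b := by
  rw [dbase, Dat.base_comp]
  congr 3
  ext a <;> simp

/-- Functoriality of dual numbers. -/
def mapEps (φ : A →+* B) : Eps A →+* Eps B where
  toFun r := inl (φ (fst r)) + inr (φ (snd r))
  map_one' := by ext <;> simp
  map_zero' := by ext <;> simp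
  map_add' r r' := by ext <;> simp
  map_mul' r r' := by ext <;> simp [mul_comm]

@[simp] theorem fst_mapEps (φ : A →+* B) (r : Eps A) : fst (mapEps φ r) = φ (fst r) := by simp [mapEps]

@[simp] theorem snd_mapEps (φ : A →+* B) (r : Eps A) : snd (mapEps φ r) = φ (snd r) := by simp [mapEps]

theorem dbase_map (φ : A →+* B) (h : Spec.map (CommRingCat.ofHom φ) ≫ b = b') :
    Spec.map (CommRingCat.ofHom (mapEps φ)) ≫ dbase b = dbase b' := by
  rw [dbase, dbase, ← h, Dat.base_comp, Dat.base_comp]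
  congr 3
  ext a <;> simp

namespace Dat

variable (D : Dat S)

/-- The inverse of the character. -/
def ec (r : Over.mk b ⟶ D.T) : A := ((D.chr b r)⁻¹ : Aˣ)

theorem ec_mul (r r' : Over.mk b ⟶ D.T) : D.ec b (r * r') = D.ec b r * D.ec b r' := by
  rw [ec, D.chr_mul, mul_inv, Units.val_mul]
  rfl

theorem ec_one : D.ec b 1 = 1 := by simp [ec, chr_one]

theorem ec_map (φ : A →+* B) (h : Spec.map (CommRingCat.ofHom φ) ≫ b = b') (r : Over.mk b ⟶ D.T) :
    φ (D.ec b r) = D.ec b' (res b φ h ≫ r) := by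
  have : Units.map φ.toMonoidHom (D.chr b r) = D.chr b' (res b φ h ≫ r) := Units.ext (D.chr_map b φ h r).symm
  rw [ec, ec, ← this, ← map_inv]
  rfl

theorem ok_dual {u : A} (h : D.Ok b u) (c : A) : D.Ok (dbase b) (inl u + inr c) := by
  refine L.of_spec_surjective D (fstR A) (dbase_fst b) fst_spec_surjective ?_
  rw [map_one]
  show D.Ok b (fst (inl u + inr c : Eps A))
  simpa using h

theorem exists_eps : ∃ a a' k : A, ∃ r, D.Coord (dbase b) (inr 1) (inl 1 + inr (-a')) r (inl 1 + inr (-a)) ∧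
    D.ec (dbase b) r = inl 1 + inr k := by
  obtain ⟨p, r, q, h⟩ := D.exists_coord (dbase b) (u := (inr 1 : Eps A))
    (by simpa using D.ok_dual b (D.ok_zero b) 1)
  have h0 := h.map (fstR A) (dbase_fst b)
  have hz : fstR A (inr 1 : Eps A) = 0 := rfl
  rw [hz] at h0
  obtain ⟨hp, hr, hq⟩ := h0.unique (D.coord_zero b)
  have he := D.ec_map (dbase b) (fstR A) (dbase_fst b) r
  rw [hr, ec_one] at he
  refine ⟨-snd q, -snd p, snd (D.ec (dbase b) r), r, ?_, ?_⟩
  · convert h using 1 <;> ext <;> simp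
    · exact hp.symm
    · exact hq.symm
  · ext <;> simp
    exact he

/-- The constant of the negative coordinate. -/
def ca : A := (D.exists_eps b).choose

/-- The constant of the positive coordinate. -/
def cb : A := (D.exists_eps b).choose_spec.choose

/-- The constant of the character. -/
def ck : A := (D.exists_eps b).choose_spec.choose_spec.choose

theorem eps_scale (w : A) : ∃ r, D.Coord (dbase b) (inr w) (inl 1 + inr (-(D.cb b) * w)) r
    (inl 1 + inr (-(D.ca b) * w)) ∧ D.ec (dbase b) r = inl 1 + inr (D.ck b * w) := by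
  obtain ⟨r, h, he⟩ : ∃ r, D.Coord (dbase b) (inr 1) (inl 1 + inr (-(D.cb b))) r (inl 1 + inr (-(D.ca b))) ∧
      D.ec (dbase b) r = inl 1 + inr (D.ck b) := (D.exists_eps b).choose_spec.choose_spec.choose_spec
  generalize D.ca b = a, D.cb b = a', D.ck b = k at h he ⊢
  refine ⟨_, ?_, ((D.ec_map (dbase b) (scaleEps w) (dbase_scale b w) r).symm.trans (congrArg _ he)).trans ?_⟩
  · convert h.map (scaleEps w) (dbase_scale b w) using 1 <;> ext <;> simp [mul_comm]
  · ext <;> simp [mul_comm]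

theorem ca_map (φ : A →+* B) (h : Spec.map (CommRingCat.ofHom φ) ≫ b = b') :
    φ (D.ca b) = D.ca b' ∧ φ (D.cb b) = D.cb b' := by
  obtain ⟨r, h1, -⟩ := D.eps_scale b 1
  obtain ⟨r', h1', -⟩ := D.eps_scale b' 1
  have h2 := h1.map (mapEps φ) (dbase_map b φ h)
  rw [show mapEps φ (inr 1 : Eps A) = inr 1 by ext <;> simp] at h2
  obtain ⟨e1, -, e3⟩ := h2.unique h1'
  constructor
  · simpa using congrArg snd e3
  · simpa using congrArg snd e1

variable {b D}

/-- First-order expansion of the coordinates at a point. -/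
theorem Coord.exists_shift {v p : A} {r : Over.mk b ⟶ D.T} {q : A} (h : D.Coord b v p r q) :
    ∃ p₁ e₁ q₁ : A, ∀ c : A, ∃ r', D.Coord (dbase b) (inl v + inr c) (inl p + inr (c * p₁)) r'
      (inl q + inr (c * q₁)) ∧ D.ec (dbase b) r' = inl (D.ec b r) + inr (c * e₁) := by
  obtain ⟨p', r', q', h'⟩ := D.exists_coord (dbase b) (D.ok_dual b h.ok 1)
  have h0 := h'.map (fstR A) (dbase_fst b)
  rw [show fstR A (inl v + inr 1 : Eps A) = v by simp [fstR]] at h0
  obtain ⟨hp, hr, hq⟩ := h0.unique h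
  have he := D.ec_map (dbase b) (fstR A) (dbase_fst b) r'
  rw [hr] at he
  refine ⟨snd p', snd (D.ec (dbase b) r'), snd q', fun c => ⟨_, ?_,
    (D.ec_map (dbase b) (scaleEps c) (dbase_scale b c) r').symm.trans ?_⟩⟩
  · convert h'.map (scaleEps c) (dbase_scale b c) using 1 <;> ext <;> simp
    · exact hp.symm
    · exact hq.symm
  · ext <;> simp
    exact he

/-- The identities imposed on the coordinates by associativity to first order. -/
theorem Coord.identities {v p : A} {r : Over.mk b ⟶ D.T} {q : A} (h : D.Coord b v p r q) :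
    D.ec b r = p - D.cb b * v * p ^ 2 ∧ D.ec b r = q - D.ca b * v * q ^ 2 ∧
      D.ec b r = 1 + D.ck b * v * p + D.ca b * D.cb b * v ^ 2 * p ^ 2 ∧
      D.ec b r = 1 + D.ck b * v * q + D.ca b * D.cb b * v ^ 2 * q ^ 2 ∧
      D.cb b * p ^ 2 * (1 + D.cb b * v) = D.cb b * p ∧ D.ca b * q ^ 2 * (1 + D.ca b * v) = D.ca b * q := by
  obtain ⟨p₁, e₁, q₁, hs⟩ := h.exists_shift
  obtain ⟨r₁, h1, -⟩ := hs 1
  simp only [one_mul] at h1
  have hi := h.map (inlHom A A) (dbase_inl b)
  have hei := D.ec_map b (inlHom A A) (dbase_inl b) r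
  -- the increment is to the right, in the positive variable
  obtain ⟨rp, hp, hep⟩ := D.eps_scale b p
  obtain ⟨q₂, hX, eX⟩ := hi.assocX (w := (inr 1 : Eps A)) (by
    convert hp using 1; ext <;> simp)
  obtain ⟨x1, -, x3⟩ := h1.unique hX
  rw [← x3] at eX
  have X1 := congrArg snd x1
  have X2 := congrArg snd eX
  rw [show (((D.chr (dbase b) (res b (inlHom A A) (dbase_inl b) ≫ r))⁻¹ : (Eps A)ˣ) : Eps A) =
    inl (D.ec b r) from hei.symm] at X2
  simp at X1 X2
  -- the increment is to the right, in the negative variable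
  obtain ⟨rq, hq, heq⟩ := D.eps_scale b q
  obtain ⟨p₂, hY, eY⟩ := hi.assocY (w := (inr 1 : Eps A)) (by
    convert hq using 1; ext <;> simp)
  obtain ⟨y1, -, y3⟩ := h1.unique hY
  rw [← y1] at eY
  have Y1 := congrArg snd y3
  have Y2 := congrArg snd eY
  rw [show (((D.chr (dbase b) (res b (inlHom A A) (dbase_inl b) ≫ r))⁻¹ : (Eps A)ˣ) : Eps A) =
    inl (D.ec b r) from hei.symm] at Y2
  simp at Y1 Y2
  -- the increment is to the left
  obtain ⟨rε, hε, heε⟩ := D.eps_scale b 1
  simp only [mul_one] at hε heε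
  obtain ⟨ra, ha, hea⟩ := hs (-(D.ca b) * v)
  obtain ⟨p₃, hY', eY'⟩ := hε.assocY (w := (inl v : Eps A)) (by
    convert ha using 1; ext <;> simp [mul_comm])
  rw [add_comm (inr 1 : Eps A) (inl v)] at hY' eY'
  obtain ⟨z1, -, z3⟩ := h1.unique hY'
  rw [← z1, show (((D.chr (dbase b) rε)⁻¹ : (Eps A)ˣ) : Eps A) = inl 1 + inr (D.ck b) from heε] at eY'
  have Z1 := congrArg snd z3
  have Z2 := congrArg snd eY'
  simp at Z1 Z2
  obtain ⟨rb, hb, heb⟩ := hs (-(D.cb b) * v)
  obtain ⟨q₄, hX', eX'⟩ := hε.assocX (w := (inl v : Eps A)) (by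
    convert hb using 1; ext <;> simp [mul_comm])
  rw [add_comm (inr 1 : Eps A) (inl v)] at hX' eX'
  obtain ⟨w1, -, w3⟩ := h1.unique hX'
  rw [← w3, show (((D.chr (dbase b) rε)⁻¹ : (Eps A)ˣ) : Eps A) = inl 1 + inr (D.ck b) from heε] at eX'
  have W1 := congrArg snd w1
  have W2 := congrArg snd eX'
  simp at W1 W2
  refine ⟨?_, ?_, ?_, ?_, ?_, ?_⟩
  · linear_combination (-1 : A) * Y2 + v * X1
  · linear_combination (-1 : A) * X2 + v * Y1
  · linear_combination Z2 - Y2 + (-(D.ca b) * v ^ 2) * X1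
  · linear_combination W2 - X2 + (-(D.cb b) * v ^ 2) * Y1
  · linear_combination (1 + D.cb b * v) * X1 - W1
  · linear_combination (1 + D.ca b * v) * Y1 - Z1

variable (b D)

theorem ck_eq : D.ck b = -2 * D.cb b ∧ D.ck b = -2 * D.ca b := by
  obtain ⟨r, h, he⟩ := D.eps_scale b 1
  obtain ⟨ha, hb⟩ := D.ca_map b (inlHom A A) (dbase_inl b)
  obtain ⟨e1, e2, -⟩ := h.identities
  rw [he, ← hb] at e1
  rw [he, ← ha] at e2
  have E1 := congrArg snd e1
  have E2 := congrArg snd e2
  simp [pow_two] at E1 E2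
  exact ⟨by linear_combination E1, by linear_combination E2⟩

end Dat

end Groth.Agent.RankOneComm
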