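import Groth.Agent.RankOneComm.Rel
import Mathlib.RingTheory.Localization.Away.Basic

/-! The coordinates of `p(x) m(y)` in the cell depend only on `x * y`. -/

set_option autoImplicit false
set_option linter.style.haveILetI false

universe u

open CategoryTheory CategoryTheory.Limits AlgebraicGeometry MonoidalCategory CartesianMonoidalCategory
open scoped MonObj
open Groth.Agent.GrpSchLib Groth.Agent.GrpSchLib.RankOne

noncomputable section

namespace Groth.Agent.RankOneComm.Dat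

variable {S : Scheme.{u}} {A B : Type u} [CommRing A] [CommRing B] (b : Spec (CommRingCat.of A) ⟶ S)
  {b' : Spec (CommRingCat.of B) ⟶ S} (D : Dat S)

/-- `p(1) m(u)` lies in the cell. -/
def Ok (u : A) : Prop := D.L b 1 u

/-- The coordinates of all `p(x) m(y)` with `x * y = u`. -/
def Coord (u p : A) (r : Over.mk b ⟶ D.T) (q : A) : Prop :=
  ∀ x y : A, x * y = u → D.Rel b x y (y * p) r (x * q)

theorem L_zero_right (x : A) : D.L b x 0 := ⟨_, _, _, D.rel_zero_right b x⟩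

theorem L_zero_left (y : A) : D.L b 0 y := ⟨_, _, _, D.rel_zero_left b y⟩

theorem ok_zero : D.Ok b 0 := D.L_zero_right b 1

theorem L_scale {x y : A} (h : D.L b x y) (w : Aˣ) : D.L b (w * x) ((w⁻¹ : Aˣ) * y) := by
  obtain ⟨a, t, d, hr⟩ := h
  exact ⟨_, _, _, Rel.scale_unit b D hr w⟩

theorem L_iff_ok (x y : A) : D.L b x y ↔ D.Ok b (x * y) := by
  have key : ∀ (K : Type u) [Field K] (c : Spec (CommRingCat.of K) ⟶ S) (x y : K),
      D.L c x y ↔ D.L c 1 (x * y) := fun K _ c x y => by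
    rcases eq_or_ne x 0 with rfl | hx
    · rw [zero_mul]
      exact iff_of_true (D.L_zero_left c y) (D.L_zero_right c 1)
    constructor
    · intro h
      simpa [hx] using D.L_scale c h (Units.mk0 x hx)⁻¹
    · intro h
      simpa [hx] using D.L_scale c h (Units.mk0 x hx)
  constructor
  · intro h
    refine L.of_fields D fun K _ _ φ => ?_
    rw [map_one, map_mul, ← key]
    exact h.map φ rfl
  · intro h
    refine L.of_fields D fun K _ _ φ => ?_
    rw [key, ← map_mul, ← map_one φ]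
    exact L.map h φ rfl

theorem ok_map {u : A} (h : D.Ok b u) (φ : A →+* B) (hφ : Spec.map (CommRingCat.ofHom φ) ≫ b = b') :
    D.Ok b' (φ u) := by
  have := L.map h φ hφ
  rwa [map_one] at this

theorem base_comp {C : Type u} [CommRing C] (φ : A →+* B) (ψ : B →+* C) :
    Spec.map (CommRingCat.ofHom ψ) ≫ Spec.map (CommRingCat.ofHom φ) ≫ b =
      Spec.map (CommRingCat.ofHom (ψ.comp φ)) ≫ b := by
  rw [← Category.assoc, ← Spec.map_comp, ← CommRingCat.ofHom_comp]

theorem base_id {φ : A →+* A} (h : φ = RingHom.id A) : Spec.map (CommRingCat.ofHom φ) ≫ b = b := by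
  subst h
  simp

/-- A neighbourhood over which the first variable becomes invertible after an injective extension. -/
theorem exists_unitize {x y : A} (h : D.Ok b (x * y)) :
    ∃ (C : Type u) (_ : CommRing C) (c : Spec (CommRingCat.of C) ⟶ S) (io : A →+* C) (ev : C →+* A) (x' : C)
      (C' : Type u) (_ : CommRing C') (j : C →+* C'),
      Spec.map (CommRingCat.ofHom io) ≫ b = c ∧ Spec.map (CommRingCat.ofHom ev) ≫ c = b ∧
      (∀ a, ev (io a) = a) ∧ ev x' = x ∧ D.Ok c (x' * io y) ∧ Function.Injective j ∧ IsUnit (j x') := by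
  obtain ⟨g, hg, hgood⟩ := D.exists_nhd b 1 ((Polynomial.X + Polynomial.C x) * Polynomial.C y) (by
    simp only [Polynomial.eval_one, Polynomial.eval_mul, Polynomial.eval_add, Polynomial.eval_X, Polynomial.eval_C,
      zero_add]
    exact h)
  let C := Localization.Away g
  let ψ : Polynomial A →+* C := algebraMap _ _
  let c : Spec (CommRingCat.of C) ⟶ S := Spec.map (CommRingCat.ofHom ψ) ≫ lineBase b
  let io : A →+* C := ψ.comp Polynomial.C
  have hgu : IsUnit (Polynomial.evalRingHom (0 : A) g) := by simp [hg]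
  let ev : C →+* A := IsLocalization.Away.lift g hgu
  have hev : ∀ r, ev (ψ r) = r.eval 0 := fun r => IsLocalization.Away.lift_eq g hgu r
  let x' : C := ψ (Polynomial.X + Polynomial.C x)
  have hio : Spec.map (CommRingCat.ofHom io) ≫ b = c := (base_comp b _ _).symm
  refine ⟨C, inferInstance, c, io, ev, x', Localization.Away x', inferInstance, algebraMap _ _, hio, ?_,
    fun a => by simp [io, hev], by simp [x', hev], ?_, ?_, IsLocalization.Away.algebraMap_isUnit x'⟩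
  · rw [← hio, base_comp]
    exact base_id b (RingHom.ext fun a => by simp [io, hev])
  · have hu := hgood C ψ c rfl (IsLocalization.Away.algebraMap_isUnit g)
    rw [map_one, map_mul] at hu
    exact hu
  · have hx : x' ∈ nonZeroDivisors C :=
      IsLocalization.map_nonZeroDivisors_le (Submonoid.powers g) C
        ⟨_, (Polynomial.monic_X_add_C x).mem_nonZeroDivisors, rfl⟩
    exact IsLocalization.injective (Localization.Away x') (Submonoid.powers_le.mpr hx)

variable {b D}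

theorem eq_of_injective_T {j : A →+* B} (hj : Function.Injective j)
    (h : Spec.map (CommRingCat.ofHom j) ≫ b = b') {t t' : Over.mk b ⟶ D.T}
    (e : res b j h ≫ t = res b j h ≫ t') : t = t' :=
  haveI := D.affine_T
  eq_of_injective (A := CommRingCat.of A) (B := CommRingCat.of B) j h hj e

theorem rel_symm {u a₁ a₂ : A} {t₁ t₂ : Over.mk b ⟶ D.T} {d₁ d₂ : A} (h₁ : D.Rel b 1 u a₁ t₁ d₁)
    (h₂ : D.Rel b u 1 a₂ t₂ d₂) : a₁ = u * a₂ ∧ t₁ = t₂ ∧ d₂ = u * d₁ := by
  have hok : D.Ok b (u * 1) := by rw [mul_one]; exact ⟨_, _, _, h₁⟩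
  obtain ⟨C, _, c, io, ev, x', C', _, j, hio, hev, hsec, hx', hok', hj, hunit⟩ := D.exists_unitize b hok
  rw [map_one, mul_one] at hok'
  obtain ⟨A₁, T₁, D₁, r₁⟩ := hok'
  obtain ⟨A₂, T₂, D₂, r₂⟩ := (D.L_iff_ok c x' 1).mpr (by rw [mul_one]; exact ⟨_, _, _, r₁⟩)
  obtain ⟨w, hw⟩ := hunit
  have s₁ := Rel.scale_unit _ D (r₁.map j rfl) w
  rw [map_one, mul_one, ← hw, Units.inv_mul] at s₁
  have s₂ := r₂.map j (b' := Spec.map (CommRingCat.ofHom j) ≫ c) rfl
  rw [map_one, ← hw] at s₂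
  obtain ⟨ea, et, ed⟩ := s₁.unique s₂
  rw [Units.inv_mul_eq_iff_eq_mul, hw, ← map_mul] at ea
  rw [hw, ← map_mul] at ed
  have v₁ := r₁.map ev hev
  have v₂ := r₂.map ev hev
  rw [map_one, hx'] at v₁ v₂
  obtain ⟨a1, t1, d1⟩ := h₁.unique v₁
  obtain ⟨a2, t2, d2⟩ := h₂.unique v₂
  refine ⟨?_, ?_, ?_⟩
  · rw [a1, a2, hj ea, map_mul, hx']
  · rw [t1, t2, eq_of_injective_T hj rfl et]
  · rw [d2, d1, ← hj ed, map_mul, hx']

variable (b D)

theorem exists_coord {u : A} (h : D.Ok b u) : ∃ p r q, D.Coord b u p r q := by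
  obtain ⟨a₁, t₁, d₁, r₁⟩ := h
  obtain ⟨a₂, t₂, d₂, r₂⟩ := (D.L_iff_ok b u 1).mpr (by rw [mul_one]; exact ⟨_, _, _, r₁⟩)
  refine ⟨a₂, t₁, d₁, fun x y hxy => ?_⟩
  have hok : D.Ok b (x * y) := by rw [hxy]; exact ⟨_, _, _, r₁⟩
  obtain ⟨C, _, c, io, ev, x', C', _, j, hio, hev, hsec, hx', hok', hj, hunit⟩ := D.exists_unitize b hok
  obtain ⟨A₁, T₁, D₁, R₁⟩ := hok'
  obtain ⟨A₂, T₂, D₂, R₂⟩ := (D.L_iff_ok c (x' * io y) 1).mpr (by rw [mul_one]; exact ⟨_, _, _, R₁⟩)
  obtain ⟨A₃, T₃, D₃, R₃⟩ := (D.L_iff_ok c x' (io y)).mpr ⟨_, _, _, R₁⟩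
  obtain ⟨e1, -, -⟩ := rel_symm R₁ R₂
  obtain ⟨w, hw⟩ := hunit
  have s₁ := Rel.scale_unit _ D (R₁.map j (b' := Spec.map (CommRingCat.ofHom j) ≫ c) rfl) w
  simp only [map_one, mul_one, e1, map_mul, ← hw, mul_assoc, Units.inv_mul_cancel_left] at s₁
  have s₃ := R₃.map j (b' := Spec.map (CommRingCat.ofHom j) ≫ c) rfl
  rw [← hw] at s₃
  obtain ⟨ea, et, ed⟩ := s₁.unique s₃
  rw [← map_mul] at ea
  rw [hw, ← map_mul] at ed
  have v₁ := R₁.map ev hev
  have v₂ := R₂.map ev hev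
  have v₃ := R₃.map ev hev
  rw [map_one, map_mul, hx', hsec, hxy] at v₁ v₂
  rw [hx', hsec] at v₃
  obtain ⟨-, t1, d1⟩ := r₁.unique v₁
  obtain ⟨a2, -, -⟩ := r₂.unique v₂
  rw [← hj ea, ← hj ed, map_mul, map_mul, hsec, hx', ← a2, ← d1, ← eq_of_injective_T hj rfl et, ← t1] at v₃
  exact v₃

variable {b D}

theorem Coord.rel_left {u p : A} {r : Over.mk b ⟶ D.T} {q : A} (h : D.Coord b u p r q) :
    D.Rel b 1 u (u * p) r q := by
  have := h 1 u (one_mul u)
  rwa [one_mul] at this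

theorem Coord.rel_right {u p : A} {r : Over.mk b ⟶ D.T} {q : A} (h : D.Coord b u p r q) :
    D.Rel b u 1 p r (u * q) := by
  have := h u 1 (mul_one u)
  rwa [one_mul] at this

theorem Coord.ok {u p : A} {r : Over.mk b ⟶ D.T} {q : A} (h : D.Coord b u p r q) : D.Ok b u :=
  ⟨_, _, _, h.rel_left⟩

theorem Coord.unique {u p p' : A} {r r' : Over.mk b ⟶ D.T} {q q' : A} (h : D.Coord b u p r q)
    (h' : D.Coord b u p' r' q') : p = p' ∧ r = r' ∧ q = q' :=
  ⟨(h.rel_right.unique h'.rel_right).1, (h.rel_left.unique h'.rel_left).2⟩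

theorem Coord.map {u p : A} {r : Over.mk b ⟶ D.T} {q : A} (h : D.Coord b u p r q) (φ : A →+* B)
    (hφ : Spec.map (CommRingCat.ofHom φ) ≫ b = b') :
    D.Coord b' (φ u) (φ p) (res b φ hφ ≫ r) (φ q) := by
  obtain ⟨p', r', q', h'⟩ := D.exists_coord b' (D.ok_map b h.ok φ hφ)
  have hl := h.rel_left.map φ hφ
  have hr := h.rel_right.map φ hφ
  rw [map_one] at hl hr
  obtain ⟨-, e2, e3⟩ := hl.unique h'.rel_left
  rw [e2, e3, (hr.unique h'.rel_right).1]
  exact h'

variable (b D)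

theorem coord_zero : D.Coord b 0 1 1 1 := by
  obtain ⟨p, r, q, h⟩ := D.exists_coord b (D.ok_zero b)
  obtain ⟨-, e2, e3⟩ := h.rel_left.unique (D.rel_zero_right b 1)
  have e1 := (h.rel_right.unique (D.rel_zero_left b 1)).1
  rw [e1, e2, e3] at h
  exact h

variable {b D}

theorem Coord.assocY {u p : A} {r : Over.mk b ⟶ D.T} {q : A} (h : D.Coord b u p r q) {w p' : A}
    {r' : Over.mk b ⟶ D.T} {q' : A} (h' : D.Coord b (q * w) p' r' q') :
    ∃ p₂, D.Coord b (u + w) p₂ (r * r') (q * q') ∧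
      (u + w) * p₂ = u * p + ((D.chr b r)⁻¹ : Aˣ) * (w * p') := by
  have hr := h.rel_left.assocY (h' q w rfl)
  obtain ⟨p₂, r₂, q₂, h₂⟩ := D.exists_coord b (show D.Ok b (u + w) from ⟨_, _, _, hr⟩)
  obtain ⟨e1, e2, e3⟩ := h₂.rel_left.unique hr
  refine ⟨p₂, ?_, e1⟩
  rw [← e2, ← e3]
  exact h₂

theorem Coord.assocX {u p : A} {r : Over.mk b ⟶ D.T} {q : A} (h : D.Coord b u p r q) {w p' : A}
    {r' : Over.mk b ⟶ D.T} {q' : A} (h' : D.Coord b (w * p) p' r' q') :
    ∃ q₂, D.Coord b (u + w) (p * p') (r' * r) q₂ ∧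
      (u + w) * q₂ = ((D.chr b r)⁻¹ : Aˣ) * (w * q') + u * q := by
  have hr := h.rel_right.assocX (h' w p rfl)
  rw [add_comm w u] at hr
  obtain ⟨p₂, r₂, q₂, h₂⟩ := D.exists_coord b
    (show D.Ok b (u + w) from mul_one (u + w) ▸ (D.L_iff_ok b (u + w) 1).mp ⟨_, _, _, hr⟩)
  obtain ⟨e1, e2, e3⟩ := h₂.rel_right.unique hr
  refine ⟨q₂, ?_, e3⟩
  rw [← e1, ← e2]
  exact h₂

end Groth.Agent.RankOneComm.Dat
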