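import Groth.Agent.RankOneComm.Unit
import Groth.Agent.GrpSchLib.RankOneNonComm

/-! The commutation rule of a rank-one system. -/

set_option autoImplicit false
set_option linter.style.haveILetI false

universe u

open CategoryTheory CategoryTheory.Limits AlgebraicGeometry MonoidalCategory CartesianMonoidalCategory
open scoped MonObj
open Groth.Agent.GrpSchLib Groth.Agent.GrpSchLib.RankOne

noncomputable section

namespace Groth.Agent.RankOneComm

variable {S : Scheme.{u}}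

/-- A natural family on affine test objects is a morphism. -/
theorem exists_glue {X Y : Over S}
    (F : ∀ (A : CommRingCat.{u}) (b : Spec A ⟶ S), (Over.mk b ⟶ X) → (Over.mk b ⟶ Y))
    (nat : ∀ (A B : CommRingCat.{u}) (b : Spec A ⟶ S) (b' : Spec B ⟶ S) (φ : A →+* B)
      (h : Spec.map (CommRingCat.ofHom φ) ≫ b = b') (j : Over.mk b ⟶ X),
      specHom φ h ≫ F A b j = F B b' (specHom φ h ≫ j)) :
    ∃ f : X ⟶ Y, ∀ (A : CommRingCat.{u}) (b : Spec A ⟶ S) (j : Over.mk b ⟶ X), j ≫ f = F A b j := by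
  -- naturality for an arbitrary morphism of test objects
  have nat' : ∀ (A B : CommRingCat.{u}) (b : Spec A ⟶ S) (b' : Spec B ⟶ S) (k : Over.mk b' ⟶ Over.mk b)
      (j : Over.mk b ⟶ X), k ≫ F A b j = F B b' (k ≫ j) := fun A B b b' k j => by
    have hk : Spec.map (CommRingCat.ofHom (Spec.preimage k.left).hom) ≫ b = b' := by
      rw [CommRingCat.ofHom_hom, Spec.map_preimage]; exact Over.w k
    have e : k = specHom (Spec.preimage k.left).hom hk := by
      ext1; simp [specHom]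
    rw [e]
    exact nat A B b b' _ hk j
  let 𝒰 := X.left.affineCover
  let jc : ∀ i, Over.mk (𝒰.f i ≫ X.hom) ⟶ X := fun i => Over.homMk (𝒰.f i) rfl
  have compat : ∀ i k, pullback.fst (𝒰.f i) (𝒰.f k) ≫ (F _ _ (jc i)).left =
      pullback.snd (𝒰.f i) (𝒰.f k) ≫ (F _ _ (jc k)).left := fun i k => by
    let Z : Over S := Over.mk (pullback.fst (𝒰.f i) (𝒰.f k) ≫ 𝒰.f i ≫ X.hom)
    let p₁ : Z ⟶ Over.mk (𝒰.f i ≫ X.hom) := Over.homMk (pullback.fst _ _) rfl
    let p₂ : Z ⟶ Over.mk (𝒰.f k ≫ X.hom) := Over.homMk (pullback.snd _ _) (by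
      show pullback.snd _ _ ≫ 𝒰.f k ≫ X.hom = pullback.fst _ _ ≫ 𝒰.f i ≫ X.hom
      rw [← pullback.condition_assoc])
    have hp : p₁ ≫ jc i = p₂ ≫ jc k := Over.OverMorphism.ext pullback.condition
    exact congrArg CommaMorphism.left (ext_spec (f := p₁ ≫ F _ _ (jc i)) (g := p₂ ≫ F _ _ (jc k)) fun A b j => by
      refine ((Category.assoc _ _ _).symm.trans (nat' _ _ _ _ (j ≫ p₁) (jc i))).trans
        (Eq.trans ?_ ((Category.assoc _ _ _).symm.trans (nat' _ _ _ _ (j ≫ p₂) (jc k))).symm)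
      have e : (j ≫ p₁) ≫ jc i = (j ≫ p₂) ≫ jc k := by rw [Category.assoc, Category.assoc, hp]
      exact congrArg (F _ _) e)
  let g := 𝒰.glueMorphisms (fun i => (F _ _ (jc i)).left) compat
  have hg : g ≫ Y.hom = X.hom := 𝒰.hom_ext _ _ fun i => by
    rw [← Category.assoc]
    exact (congrArg (· ≫ Y.hom) (𝒰.ι_glueMorphisms _ compat i)).trans (Over.w (F _ _ (jc i)))
  refine ⟨Over.homMk g hg, fun A b j => Over.OverMorphism.ext
    (Scheme.Cover.hom_ext (𝒰.pullback₁ j.left) _ _ fun i => ?_)⟩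
  let W : Over S := Over.mk (pullback.fst j.left (𝒰.f i) ≫ b)
  let w₁ : W ⟶ Over.mk b := Over.homMk (pullback.fst _ _) rfl
  let w₂ : W ⟶ Over.mk (𝒰.f i ≫ X.hom) := Over.homMk (pullback.snd _ _) (by
    show pullback.snd _ _ ≫ 𝒰.f i ≫ X.hom = pullback.fst _ _ ≫ b
    rw [← pullback.condition_assoc, Over.w j]; rfl)
  have hw : w₁ ≫ j = w₂ ≫ jc i := Over.OverMorphism.ext pullback.condition
  have h2 : jc i ≫ (Over.homMk g hg : X ⟶ Y) = F _ _ (jc i) :=
    Over.OverMorphism.ext (𝒰.ι_glueMorphisms _ compat i)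
  exact congrArg CommaMorphism.left
    (ext_spec (f := w₁ ≫ j ≫ (Over.homMk g hg : X ⟶ Y)) (g := w₁ ≫ F A b j) fun B c l => by
      have e1 : w₁ ≫ j ≫ (Over.homMk g hg : X ⟶ Y) = w₂ ≫ F _ _ (jc i) :=
        (Category.assoc _ _ _).symm.trans ((congrArg (· ≫ (Over.homMk g hg : X ⟶ Y)) hw).trans
          ((Category.assoc _ _ _).trans (congrArg (w₂ ≫ ·) h2)))
      refine ((congrArg (l ≫ ·) e1).trans ((Category.assoc _ _ _).symm.trans (nat' _ _ _ _ (l ≫ w₂) (jc i)))).trans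
        (Eq.trans ?_ ((Category.assoc _ _ _).symm.trans (nat' _ _ _ _ (l ≫ w₁) j)).symm)
      have e : (l ≫ w₂) ≫ jc i = (l ≫ w₁) ≫ j := by rw [Category.assoc, Category.assoc, hw]
      exact congrArg (F _ _) e)

namespace Dat

variable {D : Dat S} {A B : Type u} [CommRing A] [CommRing B] {b : Spec (CommRingCat.of A) ⟶ S}
  {b' : Spec (CommRingCat.of B) ⟶ S}

/-- The value of the coroot at a unit. -/
def RV (D : Dat S) (b : Spec (CommRingCat.of A) ⟶ S) (z : Aˣ) (r : Over.mk b ⟶ D.T) : Prop :=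
  ∀ x y : A, D.ca b * (x * y) = z - 1 → D.Rel b x y ((z⁻¹ : Aˣ) * y) r ((z⁻¹ : Aˣ) * x)

theorem NonComm.coord_rv (hn : D.NonComm) {v p : A} {r : Over.mk b ⟶ D.T} {q : A} (hc : D.Coord b v p r q) {z : Aˣ}
    (hz : D.ca b * v = z - 1) : p = (z⁻¹ : Aˣ) ∧ q = (z⁻¹ : Aˣ) ∧ D.chr b r = z ^ 2 ∧ RV D b z r := by
  obtain ⟨hpq, hq, he⟩ := hn.formula hc
  have hq' : q = (z⁻¹ : Aˣ) := by
    rw [← Units.mul_left_inj z, Units.inv_mul, ← hq, hz]; ring
  refine ⟨hpq.trans hq', hq', ?_, fun x y hxy => ?_⟩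
  · have h1 : (D.chr b r)⁻¹ = (z⁻¹) ^ 2 := Units.ext (by rw [Units.val_pow_eq_pow_val, ← hq']; exact he)
    rw [← inv_inv (D.chr b r), h1, inv_pow, inv_inv]
  · obtain ⟨ua, hua⟩ := (hn.isUnit_ca (b := b)).1
    have e : x * y = v := ua.isUnit.mul_left_cancel (by rw [hua, hxy, hz])
    have h := hc x y e
    rw [hpq.trans hq', hq', mul_comm y, mul_comm x] at h
    exact h

theorem NonComm.exists_rv (hn : D.NonComm) (b : Spec (CommRingCat.of A) ⟶ S) (z : Aˣ) :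
    ∃ r, D.chr b r = z ^ 2 ∧ RV D b z r := by
  obtain ⟨ua, hua⟩ := (hn.isUnit_ca (b := b)).1
  let v : A := (ua⁻¹ : Aˣ) * (z - 1)
  have hv : D.ca b * v = z - 1 := by rw [← hua]; exact Units.mul_inv_cancel_left _ _
  obtain ⟨p, r, q, hc⟩ := D.exists_coord b ((hn.ok_iff v).mpr (by rw [hv]; simp))
  exact ⟨r, (hn.coord_rv hc hv).2.2⟩

theorem NonComm.rv_unique (hn : D.NonComm) {z : Aˣ} {r r' : Over.mk b ⟶ D.T} (h : RV D b z r) (h' : RV D b z r') :
    r = r' := by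
  obtain ⟨ua, hua⟩ := (hn.isUnit_ca (b := b)).1
  have hv : D.ca b * (1 * ((ua⁻¹ : Aˣ) * ((z : A) - 1))) = z - 1 := by
    rw [one_mul, ← hua, Units.mul_inv_cancel_left]
  exact ((h _ _ hv).unique (h' _ _ hv)).2.1

theorem NonComm.rv_map (hn : D.NonComm) {z : Aˣ} {r : Over.mk b ⟶ D.T} (h : RV D b z r) (φ : A →+* B)
    (hφ : Spec.map (CommRingCat.ofHom φ) ≫ b = b') : RV D b' (Units.map φ.toMonoidHom z) (res b φ hφ ≫ r) := by
  obtain ⟨r', -, hr'⟩ := hn.exists_rv b' (Units.map φ.toMonoidHom z)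
  obtain ⟨ua, hua⟩ := (hn.isUnit_ca (b := b)).1
  have hv : D.ca b * (1 * ((ua⁻¹ : Aˣ) * ((z : A) - 1))) = z - 1 := by
    rw [one_mul, ← hua, Units.mul_inv_cancel_left]
  have h1 := (h _ _ hv).map φ hφ
  have hv' := congrArg φ hv
  rw [map_mul, map_mul, (D.ca_map b φ hφ).1, map_sub, map_one] at hv'
  rw [map_one] at h1
  rw [(h1.unique (hr' _ _ hv')).2.1]
  exact hr'

theorem NonComm.rv_mul (hn : D.NonComm) {z w : Aˣ} {r r' : Over.mk b ⟶ D.T} (h : RV D b z r) (h' : RV D b w r') :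
    RV D b (z * w) (r * r') := by
  obtain ⟨ua, hua⟩ := (hn.isUnit_ca (b := b)).1
  let u : A := (ua⁻¹ : Aˣ) * ((z : A) - 1)
  let t : A := (ua⁻¹ : Aˣ) * ((z : A) * w - z)
  have hu : D.ca b * u = z - 1 := by rw [← hua]; exact Units.mul_inv_cancel_left _ _
  have ht : D.ca b * t = z * w - z := by rw [← hua]; exact Units.mul_inv_cancel_left _ _
  obtain ⟨p, r₁, q, hc⟩ := D.exists_coord b ((hn.ok_iff u).mpr (by rw [hu]; simp))
  obtain ⟨-, hq, -, hr₁⟩ := hn.coord_rv hc hu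
  have hqt : D.ca b * (q * t) = w - 1 := by
    rw [mul_left_comm, ht, hq, mul_sub, Units.inv_mul_cancel_left, Units.inv_mul]
  obtain ⟨p', r₂, q', hc'⟩ := D.exists_coord b ((hn.ok_iff (q * t)).mpr (by rw [hqt]; simp))
  obtain ⟨-, -, -, hr₂⟩ := hn.coord_rv hc' hqt
  obtain ⟨p₂, hc₂, -⟩ := hc.assocY hc'
  rw [hn.rv_unique h hr₁, hn.rv_unique h' hr₂]
  exact (hn.coord_rv hc₂ (z := z * w) (by rw [mul_add, hu, ht, Units.val_mul]; ring)).2.2.2

theorem NonComm.L_iff (hn : D.NonComm) (x y : A) : D.L b x y ↔ IsUnit (1 + D.ca b * (x * y)) := by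
  rw [D.L_iff_ok b, hn.ok_iff]

end Dat

open Dat in
/-- The constant and the coroot, as morphisms. -/
theorem exists_pair (D : Dat S) (hn : D.NonComm) :
    ∃ (c : 𝟙_ (Over S) ⟶ Red.Gm S) (av : Red.Gm S ⟶ D.T), IsMonHom av ∧ av ≫ D.α = (𝟙 (Red.Gm S)) ^ 2 ∧
      (∀ (A : CommRingCat.{u}) (b : Spec A ⟶ S), (uv b (toUnit (Over.mk b) ≫ c) : A) = D.ca b) ∧
      ∀ (A : CommRingCat.{u}) (b : Spec A ⟶ S) (j : Over.mk b ⟶ Red.Gm S), RV D b (uv b j) (j ≫ av) := by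
  let Fc : ∀ (A : CommRingCat.{u}) (b : Spec A ⟶ S), (Over.mk b ⟶ 𝟙_ (Over S)) → (Over.mk b ⟶ Red.Gm S) :=
    fun A b _ => upt b (hn.isUnit_ca (b := b)).1.unit
  obtain ⟨c, hc⟩ := exists_glue Fc fun A B b b' φ h j => uv_injective b' (Units.ext (by
    rw [uv_map b φ h, uv_upt, uv_upt, IsUnit.unit_spec, IsUnit.unit_spec]
    exact (D.ca_map b φ h).1))
  let Fa : ∀ (A : CommRingCat.{u}) (b : Spec A ⟶ S), (Over.mk b ⟶ Red.Gm S) → (Over.mk b ⟶ D.T) :=
    fun A b j => (hn.exists_rv b (uv b j)).choose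
  obtain ⟨av, hav⟩ := exists_glue Fa fun A B b b' φ h j => by
    have h1 := hn.rv_map (hn.exists_rv b (uv b j)).choose_spec.2 φ h
    rw [show Units.map φ.toMonoidHom (uv b j) = uv b' (res b φ h ≫ j) from Units.ext (uv_map b φ h j).symm] at h1
    exact hn.rv_unique h1 (hn.exists_rv b' _).choose_spec.2
  have hRV : ∀ (A : CommRingCat.{u}) (b : Spec A ⟶ S) (j : Over.mk b ⟶ Red.Gm S),
      RV D b (uv b j) (j ≫ av) := fun A b j => by
    rw [hav]
    exact (hn.exists_rv b (uv b j)).choose_spec.2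
  refine ⟨c, av, ?_, ?_, fun A b => ?_, hRV⟩
  · refine isMonHom_of_comp av fun Y a a' => ext_spec fun A b j => ?_
    rw [← Category.assoc, MonObj.comp_mul, MonObj.comp_mul, ← Category.assoc, ← Category.assoc]
    have h1 := hn.rv_mul (hRV A b (j ≫ a)) (hRV A b (j ≫ a'))
    rw [← uv_mul] at h1
    exact hn.rv_unique (hRV A b _) h1
  · refine ext_spec fun A b j => uv_injective b ?_
    rw [← Category.assoc, hav, MonObj.comp_pow, Category.comp_id]
    refine (hn.exists_rv b (uv b j)).choose_spec.1.trans ?_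
    rw [pow_two, pow_two, uv_mul]
  · rw [hc, uv_upt, IsUnit.unit_spec]

end Groth.Agent.RankOneComm
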