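import Groth.Agent.GrpSchLib.RankOneScale
import Groth.Agent.TransLib.MultEssFree
import Groth.Agent.TorusQI.Character
import Groth.Agent.S5421

/-! Points of a rank-one cell system over affine bases and the relation `p(x) m(y) = m(a) t p(d)`. -/

set_option autoImplicit false
set_option linter.style.haveILetI false

universe u

open CategoryTheory CategoryTheory.Limits AlgebraicGeometry MonoidalCategory CartesianMonoidalCategory
open scoped MonObj
open Groth.Agent.GrpSchLib Groth.Agent.GrpSchLib.RankOne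

noncomputable section

namespace Groth.Agent.RankOneComm

/-- A torus acting with opposite weights on two lines whose cell is open. -/
structure Dat (S : Scheme.{u}) where
  G : Over S
  T : Over S
  [grpG : GrpObj G]
  [grpT : GrpObj T]
  i : T ⟶ G
  [monI : IsMonHom i]
  α : T ⟶ Red.Gm S
  [monA : IsMonHom α]
  pp : Red.Ga S ⟶ G
  pm : Red.Ga S ⟶ G
  [monP : IsMonHom pp]
  [monM : IsMonHom pm]
  hT : Red.IsTorus T
  hα : ∀ s : S, (Over.pullback (Red.geomPt s)).map α ≠ 1
  hpp : ∀ (X : Over S) (t : X ⟶ T) (x : X ⟶ Red.Ga S), ∃ x' : X ⟶ Red.Ga S,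
      x' ≫ pp = (t ≫ i) * (x ≫ pp) * (t ≫ i)⁻¹ ∧ Red.gaFn x' = Red.gmFn (t ≫ α) * Red.gaFn x
  hpm : ∀ (X : Over S) (t : X ⟶ T) (y : X ⟶ Red.Ga S), ∃ y' : X ⟶ Red.Ga S,
      y' ≫ pm = (t ≫ i) * (y ≫ pm) * (t ≫ i)⁻¹ ∧ Red.gaFn y' * Red.gmFn (t ≫ α) = Red.gaFn y
  hΩ : IsOpenImmersion (cellMap i pp pm).left

attribute [instance] Dat.grpG Dat.grpT Dat.monI Dat.monA Dat.monP Dat.monM

variable {S : Scheme.{u}} {A B : Type u} [CommRing A] [CommRing B] (b : Spec (CommRingCat.of A) ⟶ S)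
  {b' : Spec (CommRingCat.of B) ⟶ S}

/-- The point of the line with a given value. -/
def pt (x : A) : Over.mk b ⟶ Red.Ga S := GaPts.ptOfFn ((sval b).symm x)

/-- The value of a point of the line. -/
def vl (x : Over.mk b ⟶ Red.Ga S) : A := sval b (Red.gaFn x)

theorem vl_pt (x : A) : vl b (pt b x) = x := by
  simp [vl, pt, GaPts.gaFn_ptOfFn]

theorem pt_vl (x : Over.mk b ⟶ Red.Ga S) : pt b (vl b x) = x :=
  GaPts.gaFn_injective (by simp [vl, pt, GaPts.gaFn_ptOfFn])

theorem pt_injective : Function.Injective (pt b : A → (Over.mk b ⟶ Red.Ga S)) := fun x y h => by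
  rw [← vl_pt b x, h, vl_pt]

theorem pt_add (x y : A) : pt b (x + y) = pt b x * pt b y :=
  GaPts.gaFn_injective (by simp [pt, GaPts.gaFn_mul, GaPts.gaFn_ptOfFn])

theorem pt_zero : pt b (0 : A) = 1 :=
  GaPts.gaFn_injective (by simp [pt, GaPts.gaFn_one, GaPts.gaFn_ptOfFn])

variable (φ : A →+* B) (h : Spec.map (CommRingCat.ofHom φ) ≫ b = b')

/-- Restriction along a map of test rings. -/
abbrev res : Over.mk b' ⟶ Over.mk b := specHom (A := CommRingCat.of A) (B := CommRingCat.of B) φ h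

theorem pt_map (x : A) : res b φ h ≫ pt b x = pt b' (φ x) :=
  specHom_ptOfFn (A := CommRingCat.of A) (B := CommRingCat.of B) φ h x

/-- The unit of a point of the multiplicative group. -/
def uv (z : Over.mk b ⟶ Red.Gm S) : Aˣ := Units.map (sval b).toMonoidHom (GmPts.unitOfPt z)

theorem val_uv (z : Over.mk b ⟶ Red.Gm S) : (uv b z : A) = sval b (Red.gmFn z) := rfl

theorem uv_map (z : Over.mk b ⟶ Red.Gm S) : (uv b' (res b φ h ≫ z) : B) = φ (uv b z) := by
  rw [val_uv, val_uv, GmPts.gmFn_comp]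
  exact sval_specHom (A := CommRingCat.of A) (B := CommRingCat.of B) φ h _

theorem uv_mul (z z' : Over.mk b ⟶ Red.Gm S) : uv b (z * z') = uv b z * uv b z' := by
  simp [uv, GmPts.unitOfPt_mul, map_mul]

theorem uv_injective : Function.Injective (uv b : (Over.mk b ⟶ Red.Gm S) → Aˣ) := fun z z' h => by
  have h1 := congrArg Units.val h
  rw [val_uv, val_uv] at h1
  exact GmPts.gmFn_injective ((sval b).injective h1)

/-- The point of the multiplicative group with a given unit. -/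
def upt (z : Aˣ) : Over.mk b ⟶ Red.Gm S := GmPts.ptOfUnit (Units.map (sval b).symm.toMonoidHom z)

theorem uv_upt (z : Aˣ) : uv b (upt b z) = z := by
  ext
  simp [uv, upt, GmPts.unitOfPt_ptOfUnit]

theorem upt_uv (z : Over.mk b ⟶ Red.Gm S) : upt b (uv b z) = z := uv_injective b (uv_upt b _)

namespace Dat

variable (D : Dat S)

/-- The positive line. -/
def P (x : A) : Over.mk b ⟶ D.G := pt b x ≫ D.pp

/-- The negative line. -/
def M (x : A) : Over.mk b ⟶ D.G := pt b x ≫ D.pm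

/-- The torus. -/
def I (t : Over.mk b ⟶ D.T) : Over.mk b ⟶ D.G := t ≫ D.i

/-- The character. -/
def chr (t : Over.mk b ⟶ D.T) : Aˣ := uv b (t ≫ D.α)

theorem P_add (x y : A) : D.P b (x + y) = D.P b x * D.P b y := by
  simp [P, pt_add, MonObj.mul_comp]

theorem M_add (x y : A) : D.M b (x + y) = D.M b x * D.M b y := by
  simp [M, pt_add, MonObj.mul_comp]

theorem P_zero : D.P b (0 : A) = 1 := by simp [P, pt_zero, MonObj.one_comp]

theorem M_zero : D.M b (0 : A) = 1 := by simp [M, pt_zero, MonObj.one_comp]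

theorem I_mul (t t' : Over.mk b ⟶ D.T) : D.I b (t * t') = D.I b t * D.I b t' := MonObj.mul_comp t t' D.i

theorem I_one : D.I b 1 = 1 := MonObj.one_comp D.i

theorem chr_mul (t t' : Over.mk b ⟶ D.T) : D.chr b (t * t') = D.chr b t * D.chr b t' := by
  simp only [chr, MonObj.mul_comp t t' D.α, uv_mul]

theorem chr_one : D.chr b 1 = 1 := by
  have h := D.chr_mul b 1 1
  rw [mul_one] at h
  exact left_eq_mul.mp h

theorem chr_inv (t : Over.mk b ⟶ D.T) : D.chr b t⁻¹ = (D.chr b t)⁻¹ := by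
  rw [eq_inv_iff_mul_eq_one, ← D.chr_mul, inv_mul_cancel, D.chr_one]

include h in
theorem P_map (x : A) : res b φ h ≫ D.P b x = D.P b' (φ x) := by
  rw [P, ← Category.assoc, pt_map, P]

include h in
theorem M_map (x : A) : res b φ h ≫ D.M b x = D.M b' (φ x) := by
  rw [M, ← Category.assoc, pt_map, M]

theorem I_map (t : Over.mk b ⟶ D.T) : res b φ h ≫ D.I b t = D.I b' (res b φ h ≫ t) :=
  (Category.assoc _ _ _).symm

theorem chr_map (t : Over.mk b ⟶ D.T) : (D.chr b' (res b φ h ≫ t) : B) = φ (D.chr b t) := by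
  rw [chr, Category.assoc, uv_map b φ h]; rfl

theorem conj_P (t : Over.mk b ⟶ D.T) (x : A) :
    D.I b t * D.P b x * (D.I b t)⁻¹ = D.P b (D.chr b t * x) := by
  obtain ⟨x', h1, h2⟩ := D.hpp _ t (pt b x)
  rw [P, P, I, ← h1]
  congr 1
  refine (pt_vl b x').symm.trans (congrArg _ ?_)
  rw [vl, h2, map_mul]
  exact congrArg₂ (· * ·) rfl (vl_pt b x)

theorem conj_M (t : Over.mk b ⟶ D.T) (x : A) :
    D.I b t * D.M b x * (D.I b t)⁻¹ = D.M b (((D.chr b t)⁻¹ : Aˣ) * x) := by
  obtain ⟨x', h1, h2⟩ := D.hpm _ t (pt b x)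
  rw [M, M, I, ← h1]
  congr 1
  refine (pt_vl b x').symm.trans (congrArg _ ?_)
  rw [Units.eq_inv_mul_iff_mul_eq, mul_comm]
  have h3 := congrArg (sval b) h2
  rw [map_mul] at h3
  exact h3.trans (vl_pt b x)

theorem torus_comm (t t' : Over.mk b ⟶ D.T) : t * t' = t' * t := torus_mul_comm D.hT _ t t'

/-- The relation `p(x) m(y) = m(a) t p(d)`. -/
def Rel (x y a : A) (t : Over.mk b ⟶ D.T) (d : A) : Prop :=
  D.P b x * D.M b y = D.M b a * D.I b t * D.P b d

/-- `p(x) m(y)` lies in the cell. -/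
def L (x y : A) : Prop := ∃ a t d, D.Rel b x y a t d

variable {b D}

theorem Rel.unique {x y a a' : A} {t t' : Over.mk b ⟶ D.T} {d d' : A} (h : D.Rel b x y a t d)
    (h' : D.Rel b x y a' t' d') : a = a' ∧ t = t' ∧ d = d' := by
  obtain ⟨h1, h2, h3⟩ := cell_ext D.hΩ (h.symm.trans h')
  exact ⟨pt_injective b h1, h2, pt_injective b h3⟩

theorem Rel.map {x y a : A} {t : Over.mk b ⟶ D.T} {d : A} (hr : D.Rel b x y a t d) (φ : A →+* B)
    (h : Spec.map (CommRingCat.ofHom φ) ≫ b = b') :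
    D.Rel b' (φ x) (φ y) (φ a) (res b φ h ≫ t) (φ d) := by
  have h1 := congrArg (fun g => res b φ h ≫ g) hr
  simp only [MonObj.comp_mul, P_map b φ h, M_map b φ h, I_map b φ h] at h1
  exact h1

theorem L.map {x y : A} (hl : D.L b x y) (φ : A →+* B) (h : Spec.map (CommRingCat.ofHom φ) ≫ b = b') :
    D.L b' (φ x) (φ y) := by
  obtain ⟨a, t, d, hr⟩ := hl
  exact ⟨_, _, _, Rel.map hr φ h⟩

variable (b D)

theorem rel_zero_right (x : A) : D.Rel b x 0 0 1 x := by
  simp [Rel, P_zero, M_zero, I_one]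

theorem rel_zero_left (y : A) : D.Rel b 0 y y 1 0 := by
  simp [Rel, P_zero, M_zero, I_one]

variable {b D}

/-- Associativity in the negative variable. -/
theorem Rel.assocY {x y a : A} {t : Over.mk b ⟶ D.T} {d : A} (h : D.Rel b x y a t d) {w a' : A}
    {t' : Over.mk b ⟶ D.T} {d' : A} (h' : D.Rel b d w a' t' d') :
    D.Rel b x (y + w) (a + ((D.chr b t)⁻¹ : Aˣ) * a') (t * t') d' := by
  unfold Rel at h h' ⊢
  rw [D.M_add, D.M_add, D.I_mul, ← D.conj_M]
  calc D.P b x * (D.M b y * D.M b w) = (D.P b x * D.M b y) * D.M b w := (mul_assoc _ _ _).symm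
    _ = D.M b a * D.I b t * (D.P b d * D.M b w) := by rw [h]; group
    _ = _ := by rw [h']; group

/-- Associativity in the positive variable. -/
theorem Rel.assocX {x y a : A} {t : Over.mk b ⟶ D.T} {d : A} (h : D.Rel b x y a t d) {w a' : A}
    {t' : Over.mk b ⟶ D.T} {d' : A} (h' : D.Rel b w a a' t' d') :
    D.Rel b (w + x) y a' (t' * t) (((D.chr b t)⁻¹ : Aˣ) * d' + d) := by
  unfold Rel at h h' ⊢
  rw [D.P_add, D.P_add, D.I_mul, ← D.chr_inv, ← D.conj_P, show D.I b t⁻¹ = (D.I b t)⁻¹ from GrpObj.inv_comp t D.i]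
  calc D.P b w * D.P b x * D.M b y = D.P b w * (D.P b x * D.M b y) := mul_assoc _ _ _
    _ = (D.P b w * D.M b a) * D.I b t * D.P b d := by rw [h]; group
    _ = _ := by rw [h']; group

/-- Scaling by a value of the character. -/
theorem Rel.scale {x y a : A} {t : Over.mk b ⟶ D.T} {d : A} (h : D.Rel b x y a t d) (s : Over.mk b ⟶ D.T) :
    D.Rel b (D.chr b s * x) (((D.chr b s)⁻¹ : Aˣ) * y) (((D.chr b s)⁻¹ : Aˣ) * a) t (D.chr b s * d) := by
  unfold Rel at h ⊢
  rw [← D.conj_P, ← D.conj_M, ← D.conj_M, ← D.conj_P]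
  have hc : D.I b t = D.I b s * D.I b t * (D.I b s)⁻¹ := by
    rw [← D.I_mul, D.torus_comm b s t, D.I_mul, mul_inv_cancel_right]
  calc D.I b s * D.P b x * (D.I b s)⁻¹ * (D.I b s * D.M b y * (D.I b s)⁻¹)
      = D.I b s * (D.P b x * D.M b y) * (D.I b s)⁻¹ := by group
    _ = (D.I b s * D.M b a * (D.I b s)⁻¹) * (D.I b s * D.I b t * (D.I b s)⁻¹) *
          (D.I b s * D.P b d * (D.I b s)⁻¹) := by rw [h]; group
    _ = _ := by rw [← hc]

variable (b D)

instance affine_T : IsAffineHom D.T.hom :=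
  (TransLib.multTypeFT_essFree (TorusQI.isMultTypeFT_of_isTorus D.hT)).1

/-- Scaling by any unit. -/
theorem Rel.scale_unit {x y a : A} {t : Over.mk b ⟶ D.T} {d : A} (h : D.Rel b x y a t d) (w : Aˣ) :
    D.Rel b (w * x) ((w⁻¹ : Aˣ) * y) ((w⁻¹ : Aˣ) * a) t (w * d) := by
  obtain ⟨hf, hs⟩ := (Groth.Agent.S5421.result S D.T D.hT D.α).2.1 D.hα
  let q := pullback.fst (upt b w).left D.α.left
  haveI : Flat q := inferInstanceAs (Flat (pullback.fst _ _))
  haveI : Surjective q := inferInstanceAs (Surjective (pullback.fst _ _))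
  haveI : Epi q := Flat.epi_of_flat_of_surjective q
  let Z : Over S := Over.mk (q ≫ b)
  let q' : Z ⟶ Over.mk b := Over.homMk q rfl
  haveI : Epi q' := (Over.forget S).epi_of_epi_map (inferInstanceAs (Epi q))
  show _ = _
  rw [← cancel_epi q']
  refine ext_spec fun C c j => ?_
  let φ : A →+* C := (Spec.preimage (j ≫ q').left).hom
  have hφ : Spec.map (CommRingCat.ofHom φ) ≫ b = c := by
    rw [CommRingCat.ofHom_hom, Spec.map_preimage]
    exact Over.w (j ≫ q')
  have hj : j ≫ q' = res b φ hφ := by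
    ext1
    simp [res, specHom, φ]
  let s : Over.mk c ⟶ D.T := Over.homMk (j.left ≫ pullback.snd (upt b w).left D.α.left) (by
    show (j.left ≫ pullback.snd (upt b w).left D.α.left) ≫ D.T.hom = c
    rw [← Over.w D.α, Category.assoc, ← pullback.condition_assoc, Over.w (upt b w)]
    exact Over.w j)
  have hs : (D.chr c s : C) = φ w := by
    have e : s ≫ D.α = res b φ hφ ≫ upt b w := by
      rw [← hj]
      ext1
      show (j.left ≫ pullback.snd (upt b w).left D.α.left) ≫ D.α.left = (j.left ≫ q) ≫ (upt b w).left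
      simp only [Category.assoc, q, pullback.condition]
    rw [chr, e, uv_map b φ hφ, uv_upt]
  have hs' : ((D.chr c s)⁻¹ : Cˣ) = Units.map φ.toMonoidHom w⁻¹ := by
    rw [map_inv, inv_inj]
    exact Units.ext hs
  have h1 := (h.map φ hφ).scale s
  rw [hs, hs'] at h1
  rw [← Category.assoc, ← Category.assoc, hj]
  simp only [MonObj.comp_mul, P_map b φ hφ, M_map b φ hφ, I_map b φ hφ, map_mul]
  exact h1

theorem range_iff {x y : A} :
    D.L b x y ↔ Set.range (D.P b x * D.M b y).left ⊆ Set.range (cellMap D.i D.pp D.pm).left := by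
  constructor
  · rintro ⟨a, t, d, h⟩
    have h' : D.P b x * D.M b y = lift (lift (pt b a) t) (pt b d) ≫ cellMap D.i D.pp D.pm := by
      rw [cell_comp]; exact h
    rw [h']
    rintro _ ⟨z, rfl⟩
    exact ⟨_, rfl⟩
  · intro hr
    haveI := D.hΩ
    let g := D.P b x * D.M b y
    let l : Over.mk b ⟶ (Red.Ga S ⊗ D.T) ⊗ Red.Ga S :=
      Over.homMk (IsOpenImmersion.lift (cellMap D.i D.pp D.pm).left g.left hr) (by
        rw [← Over.w (cellMap D.i D.pp D.pm), IsOpenImmersion.lift_fac_assoc, Over.w])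
    have hl : l ≫ cellMap D.i D.pp D.pm = g := Over.OverMorphism.ext (IsOpenImmersion.lift_fac _ _ _)
    refine ⟨vl b (l ≫ fst _ _ ≫ fst _ _), l ≫ fst _ _ ≫ snd _ _, vl b (l ≫ snd _ _), ?_⟩
    unfold Rel M P I
    rw [pt_vl, pt_vl, ← cell_comp]
    refine hl.symm.trans ?_
    congr 1
    ext <;> simp

include h in
theorem left_map (x y : A) (z : Spec (CommRingCat.of B)) :
    (D.P b' (φ x) * D.M b' (φ y)).left z = (D.P b x * D.M b y).left (Spec.map (CommRingCat.ofHom φ) z) := by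
  rw [← P_map b φ h D x, ← M_map b φ h D y, ← MonObj.comp_mul]
  rfl

variable {b}

theorem L.of_spec_surjective (φ : A →+* B) (h : Spec.map (CommRingCat.ofHom φ) ≫ b = b')
    (hs : Function.Surjective (Spec.map (CommRingCat.ofHom φ))) {x y : A} (hl : D.L b' (φ x) (φ y)) :
    D.L b x y := by
  rw [range_iff] at hl ⊢
  rintro _ ⟨z, rfl⟩
  obtain ⟨z', rfl⟩ := hs z
  rw [← left_map b φ h]
  exact hl ⟨_, rfl⟩

theorem L.of_fields {x y : A}
    (hl : ∀ (K : Type u) [Field K] [IsAlgClosed K] (φ : A →+* K),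
      D.L (Spec.map (CommRingCat.ofHom φ) ≫ b) (φ x) (φ y)) : D.L b x y := by
  rw [range_iff]
  rintro _ ⟨z, rfl⟩
  let z : PrimeSpectrum A := z
  let K := AlgebraicClosure z.asIdeal.ResidueField
  let φ : A →+* K := (algebraMap z.asIdeal.ResidueField K).comp (algebraMap A z.asIdeal.ResidueField)
  have hl' := hl K φ
  rw [range_iff] at hl'
  have hz : Spec.map (CommRingCat.ofHom φ) (IsLocalRing.closedPoint K) = z := by
    refine PrimeSpectrum.ext (Ideal.ext fun a => ?_)
    show φ a ∈ IsLocalRing.maximalIdeal K ↔ a ∈ z.asIdeal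
    rw [IsLocalRing.maximalIdeal_eq_bot, Ideal.mem_bot]
    rw [RingHom.comp_apply, map_eq_zero]
    exact Ideal.algebraMap_residueField_eq_zero
  have e : (D.P b x * D.M b y).left z ∈ Set.range (cellMap D.i D.pp D.pm).left := by
    rw [← hz]
    exact Set.mem_of_eq_of_mem (left_map b φ rfl D x y _).symm (hl' ⟨_, rfl⟩)
  exact e

variable (b)

/-- Membership in the cell persists on a principal open containing a section. -/
theorem exists_nhd (f g : Polynomial A)
    (hl : D.L b (f.eval 0) (g.eval 0)) :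
    ∃ h : Polynomial A, h.eval 0 = 1 ∧ ∀ (C : Type u) [CommRing C] (ψ : Polynomial A →+* C)
      (c : Spec (CommRingCat.of C) ⟶ S), Spec.map (CommRingCat.ofHom ψ) ≫ lineBase b = c →
      IsUnit (ψ h) → D.L c (ψ f) (ψ g) := by
  haveI := D.hΩ
  let k : Over.mk (lineBase b) ⟶ D.G := D.P (lineBase b) f * D.M (lineBase b) g
  let V := k.left ⁻¹ᵁ (cellMap D.i D.pp D.pm).left.opensRange
  obtain ⟨I, hI⟩ := (PrimeSpectrum.isClosed_iff_zeroLocus_ideal _).mp V.isOpen.isClosed_compl
  have htop : I ⊔ Ideal.span {(Polynomial.X : Polynomial A)} = ⊤ := by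
    by_contra hne
    obtain ⟨m, hm, hle⟩ := Ideal.exists_le_maximal _ hne
    haveI := hm.isPrime
    let z : PrimeSpectrum (Polynomial A) := ⟨m, inferInstance⟩
    have hz : z ∈ PrimeSpectrum.zeroLocus (I : Set (Polynomial A)) := (le_sup_left.trans hle : I ≤ m)
    rw [← hI] at hz
    have hX : (Polynomial.X : Polynomial A) ∈ m :=
      (le_sup_right.trans hle : Ideal.span {(Polynomial.X : Polynomial A)} ≤ m) (Ideal.subset_span rfl)
    let p : PrimeSpectrum A := ⟨m.comap Polynomial.C, inferInstance⟩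
    have hp : Spec.map (CommRingCat.ofHom (Polynomial.evalRingHom (0 : A))) p = z := by
      refine PrimeSpectrum.ext (Ideal.ext fun q => ?_)
      show Polynomial.C (Polynomial.evalRingHom (0 : A) q) ∈ m ↔ q ∈ m
      obtain ⟨r, hr⟩ : Polynomial.X ∣ q - Polynomial.C (q.eval 0) := by
        rw [Polynomial.X_dvd_iff]; simp [Polynomial.coeff_zero_eq_eval_zero]
      rw [sub_eq_iff_eq_add'] at hr
      conv_rhs => rw [hr]
      rw [Ideal.add_mem_iff_left _ (Ideal.mul_mem_right _ _ hX)]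
      rfl
    refine hz ?_
    show k.left z ∈ Set.range (cellMap D.i D.pp D.pm).left
    rw [← hp]
    exact Set.mem_of_eq_of_mem (left_map (lineBase b) (Polynomial.evalRingHom (0 : A))
      (eval_base (A := CommRingCat.of A) b 0) D f g p).symm ((range_iff b D).mp hl ⟨p, rfl⟩)
  obtain ⟨h, hhI, r, hr, hsum⟩ := Submodule.mem_sup.mp (htop ▸ Submodule.mem_top : (1 : Polynomial A) ∈ _)
  refine ⟨h, ?_, fun C _ ψ c hc hu => ?_⟩
  · obtain ⟨r', rfl⟩ := Ideal.mem_span_singleton'.mp hr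
    simpa using congrArg (Polynomial.eval 0) hsum
  rw [range_iff]
  rintro _ ⟨z, rfl⟩
  refine Set.mem_of_eq_of_mem (left_map (lineBase b) ψ hc D f g z) ?_
  by_contra hne
  have : (Spec.map (CommRingCat.ofHom ψ) z : PrimeSpectrum (Polynomial A)) ∈
      PrimeSpectrum.zeroLocus (I : Set (Polynomial A)) := hI ▸ hne
  exact z.2.ne_top (Ideal.eq_top_of_isUnit_mem _ (this hhI) hu)

end Dat

end Groth.Agent.RankOneComm
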