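import Groth.Agent.RankOneComm.Const
import Mathlib.Algebra.Polynomial.Roots
import Mathlib.RingTheory.Polynomial.Basic

/-! Non-commuting root groups make the constants invertible and equal. -/

set_option autoImplicit false
set_option linter.style.haveILetI false

universe u

open CategoryTheory CategoryTheory.Limits AlgebraicGeometry MonoidalCategory CartesianMonoidalCategory
open scoped MonObj
open Groth.Agent.GrpSchLib Groth.Agent.GrpSchLib.RankOne

noncomputable section

namespace Groth.Agent.RankOneComm.Dat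

variable {S : Scheme.{u}} (D : Dat S)

theorem exists_good {K : Type u} [Field K] (b : Spec (CommRingCat.of K) ⟶ S) :
    ∃ Z : Finset K, ∀ v ∉ Z, D.Ok b v := by
  classical
  obtain ⟨h, h0, hgood⟩ := D.exists_nhd b 1 Polynomial.X (by
    have h0 : D.L b 1 0 := D.ok_zero b
    simpa using h0)
  have hne : h ≠ 0 := fun e => one_ne_zero (α := K) (by rw [← h0, e, Polynomial.eval_zero])
  refine ⟨h.roots.toFinset, fun v hv => ?_⟩
  have := hgood K (Polynomial.evalRingHom v) b (eval_base (A := CommRingCat.of K) b v) (by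
    rw [isUnit_iff_ne_zero]
    intro h'
    exact hv (Multiset.mem_toFinset.mpr ((Polynomial.mem_roots hne).mpr h')))
  simpa [Ok] using this

/-- Over an algebraically closed field the cell contains every admissible value. -/
theorem ok_of_ne_zero {K : Type u} [Field K] [IsAlgClosed K] (b : Spec (CommRingCat.of K) ⟶ S) (a : K)
    (hq : ∀ v p r q, D.Coord b v p r q → q * (1 + a * v) = 1) {u : K} (hu : 1 + a * u ≠ 0) : D.Ok b u := by
  classical
  obtain ⟨Z, hZ⟩ := D.exists_good b
  haveI : Infinite K := IsAlgClosed.instInfinite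
  obtain ⟨u₁, hu₁⟩ := Infinite.exists_notMem_finset
    (insert (-(a⁻¹)) (Z ∪ Z.image fun ρ => (u - ρ) / (1 + ρ * a)))
  simp only [Finset.mem_insert, Finset.mem_union, Finset.mem_image, not_or] at hu₁
  obtain ⟨p, r, q, hc⟩ := D.exists_coord b (hZ u₁ hu₁.2.1)
  have hq1 := hq _ _ _ _ hc
  have hmem : q * (u - u₁) ∉ Z := fun hm => by
    refine hu₁.2.2 ⟨_, hm, ?_⟩
    have e : u - u₁ = q * (u - u₁) * (1 + a * u₁) := by linear_combination -(u - u₁) * hq1
    rcases eq_or_ne (1 + q * (u - u₁) * a) 0 with h0 | h0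
    · refine absurd ?_ hu
      linear_combination h0 + a * e + (a * u₁) * h0
    · rw [div_eq_iff h0]
      linear_combination e
  obtain ⟨p', r', q', hc'⟩ := D.exists_coord b (hZ _ hmem)
  obtain ⟨p₂, h₂, -⟩ := hc.assocY hc'
  rw [add_sub_cancel] at h₂
  exact h₂.ok

/-- A chart of the torus over an extension of a field. -/
theorem exists_chart {K : Type u} [Field K] (b : Spec (CommRingCat.of K) ⟶ S) :
    ∃ (L : Type u) (_ : Field L) (θ : K →+* L) (U : Scheme.{u}) (g : U ⟶ S) (r : ℕ)
      (ψ : Red.bc g D.T ⟶ Red.DS U (Fin r → ℤ)) (_ : IsIso ψ) (j : Spec (CommRingCat.of L) ⟶ U),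
      j ≫ g = Spec.map (CommRingCat.ofHom θ) ≫ b := by
  obtain ⟨S', f, -, hs, -, hloc⟩ := D.hT
  obtain ⟨s', hs'⟩ := f.surjective (b (IsLocalRing.closedPoint K))
  obtain ⟨z, hz, -⟩ := Scheme.Pullback.exists_preimage_pullback (f := f) (g := b) s' (IsLocalRing.closedPoint K) hs'
  let κ := (pullback f b).residueField z
  let e : Spec (CommRingCat.of κ) ⟶ pullback f b := (pullback f b).fromSpecResidueField z
  let θ : K →+* κ := (Spec.preimage (e ≫ pullback.snd f b)).hom
  have hθ : Spec.map (CommRingCat.ofHom θ) = e ≫ pullback.snd f b := by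
    rw [CommRingCat.ofHom_hom, Spec.map_preimage]
  obtain ⟨U, hU, r, ⟨eiso⟩⟩ := hloc s'
  have hrange : Set.range (e ≫ pullback.fst f b) ⊆ Set.range U.ι := by
    rintro _ ⟨x, rfl⟩
    rw [Scheme.Opens.range_ι]
    have hm : e x ∈ Set.range ((pullback f b).fromSpecResidueField z) := ⟨x, rfl⟩
    rw [Scheme.range_fromSpecResidueField, Set.mem_singleton_iff] at hm
    show pullback.fst f b (e x) ∈ (U : Set S')
    rw [hm, hz]
    exact hU
  refine ⟨κ, inferInstance, θ, U, U.ι ≫ f, r, eiso.hom.hom.hom, ((Grp.forget _).mapIso eiso).isIso_hom,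
    IsOpenImmersion.lift U.ι (e ≫ pullback.fst f b) hrange, ?_⟩
  rw [hθ, ← Category.assoc, IsOpenImmersion.lift_fac, Category.assoc, Category.assoc, pullback.condition]

/-- A family of torus points over the line is constant. -/
theorem torus_line_const {K : Type u} [Field K] (b : Spec (CommRingCat.of K) ⟶ S)
    (t : Over.mk (lineBase (A := CommRingCat.of K) b) ⟶ D.T)
    (σ : Polynomial K →+* Polynomial K) (hσ : σ = Polynomial.C.comp (Polynomial.evalRingHom 0))
    (h : Spec.map (CommRingCat.ofHom σ) ≫ lineBase (A := CommRingCat.of K) b = lineBase (A := CommRingCat.of K) b) :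
    res (lineBase (A := CommRingCat.of K) b) σ h ≫ t = t := by
  obtain ⟨L, _, θ, U, g, r, ψ, _, j, hj⟩ := D.exists_chart b
  let jX : Spec (CommRingCat.of (Polynomial L)) ⟶ U :=
    Spec.map (CommRingCat.ofHom (Polynomial.C : L →+* Polynomial L)) ≫ j
  have hm : Spec.map (CommRingCat.ofHom (Polynomial.mapRingHom θ)) ≫ lineBase (A := CommRingCat.of K) b = jX ≫ g := by
    rw [lineBase, base_comp, Category.assoc, hj, base_comp]
    congr 3
    ext a; simp
  refine eq_of_injective_T (Polynomial.map_injective θ θ.injective : Function.Injective (Polynomial.mapRingHom θ))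
    hm ?_
  obtain ⟨f, hf⟩ := exists_eq_splitPt g ψ jX (res _ (Polynomial.mapRingHom θ) hm ≫ t)
  let τ : Polynomial L →+* Polynomial L := Polynomial.C.comp (Polynomial.evalRingHom 0)
  have hτf : τ.comp f = f := by
    refine MonoidAlgebra.ringHom_ext
      (fun n => RingHom.congr_fun (DSPtsLib.ulift_ringHom_ext
        ((τ.comp f).comp MonoidAlgebra.singleOneRingHom) (f.comp MonoidAlgebra.singleOneRingHom)) n)
      fun n => ?_
    have hu : IsUnit (f (MonoidAlgebra.single n 1)) := (Group.isUnit n).map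
      (f.toMonoidHom.comp (MonoidAlgebra.of (ULift.{u} ℤ) _))
    obtain ⟨c, -, hc⟩ := Polynomial.isUnit_iff.mp hu
    show τ (f _) = _
    rw [← hc]
    simp [τ]
  have hτj : Spec.map (CommRingCat.ofHom τ) ≫ jX = jX := by
    show Spec.map _ ≫ Spec.map _ ≫ j = _
    rw [← Category.assoc, ← Spec.map_comp, ← CommRingCat.ofHom_comp]
    congr 3
    ext a; simp [τ]
  have hτg : Spec.map (CommRingCat.ofHom τ) ≫ jX ≫ g = jX ≫ g := by rw [← Category.assoc, hτj]
  have hsp := splitPt_comp g ψ jX τ jX hτj f hτg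
  rw [hτf, ← hf] at hsp
  conv_rhs => rw [← hsp]
  rw [← Category.assoc, ← Category.assoc]
  congr 1
  ext1
  simp only [Over.comp_left, res, specHom, Over.homMk_left, ← Spec.map_comp, ← CommRingCat.ofHom_comp]
  congr 2
  subst hσ
  refine Polynomial.ringHom_ext (fun a => by simp [τ]) (by simp [τ])

theorem exists_ne_zero_ok {K : Type u} [Field K] [IsAlgClosed K] (b : Spec (CommRingCat.of K) ⟶ S) :
    ∃ v : K, v ≠ 0 ∧ D.Ok b v := by
  classical
  obtain ⟨Z, hZ⟩ := D.exists_good b
  haveI : Infinite K := IsAlgClosed.instInfinite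
  obtain ⟨v, hv⟩ := Infinite.exists_notMem_finset (insert 0 Z)
  simp only [Finset.mem_insert, not_or] at hv
  exact ⟨v, hv.1, hZ v hv.2⟩

theorem ca_eq_zero_iff {K : Type u} [Field K] [IsAlgClosed K] (b : Spec (CommRingCat.of K) ⟶ S) :
    D.ca b = 0 ↔ D.cb b = 0 := by
  obtain ⟨v, hv0, hv⟩ := D.exists_ne_zero_ok b
  obtain ⟨p, r, q, hc⟩ := D.exists_coord b hv
  obtain ⟨e1, e2, e3, e4, e5, e6⟩ := hc.identities
  obtain ⟨hk, hk'⟩ := D.ck_eq b
  constructor <;> intro h <;> by_contra hne
  · have h2 : 2 * D.cb b = 0 := by rw [h] at hk'; linear_combination hk - hk'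
    have hk0 : D.ck b = 0 := by rw [hk', h, mul_zero]
    rw [h, hk0] at e3
    have hp0 : p ≠ 0 := fun hp => one_ne_zero (α := K) (by rw [hp] at e1 e3; linear_combination e1 - e3)
    have hp : p * (1 + D.cb b * v) = 1 := mul_left_cancel₀ (mul_ne_zero hne hp0) (by linear_combination e5)
    have : (D.cb b * v) * (D.cb b * v) = 0 := by
      linear_combination ((1 + D.cb b * v) ^ 2) * (e3 - e1) + (v + D.cb b * v ^ 2) * h2 -
        ((p * (1 + D.cb b * v) + 1) * (-D.cb b * v) + (1 + D.cb b * v)) * hp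
    exact mul_ne_zero (mul_ne_zero hne hv0) (mul_ne_zero hne hv0) this
  · have h2 : 2 * D.ca b = 0 := by rw [h] at hk; linear_combination hk' - hk
    have hk0 : D.ck b = 0 := by rw [hk, h, mul_zero]
    rw [h, hk0] at e4
    have hp0 : q ≠ 0 := fun hp => one_ne_zero (α := K) (by rw [hp] at e2 e4; linear_combination e2 - e4)
    have hp : q * (1 + D.ca b * v) = 1 := mul_left_cancel₀ (mul_ne_zero hne hp0) (by linear_combination e6)
    have : (D.ca b * v) * (D.ca b * v) = 0 := by
      linear_combination ((1 + D.ca b * v) ^ 2) * (e4 - e2) + (v + D.ca b * v ^ 2) * h2 -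
        ((q * (1 + D.ca b * v) + 1) * (-D.ca b * v) + (1 + D.ca b * v)) * hp
    exact mul_ne_zero (mul_ne_zero hne hv0) (mul_ne_zero hne hv0) this

/-- If the constant vanishes at a geometric point the opposite lines commute there. -/
theorem commute_of_ca_zero {K : Type u} [Field K] [IsAlgClosed K] (b : Spec (CommRingCat.of K) ⟶ S)
    (h0 : D.ca b = 0) {C : Type u} [CommRing C] (c : Spec (CommRingCat.of C) ⟶ S) (φ : K →+* C)
    (hφ : Spec.map (CommRingCat.ofHom φ) ≫ b = c) (x y : C) :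
    D.P c x * D.M c y = D.M c y * D.P c x := by
  have hb0 := (D.ca_eq_zero_iff b).mp h0
  have hk0 : D.ck b = 0 := by rw [(D.ck_eq b).1, hb0, mul_zero]
  have hconst : ∀ (C : Type u) [CommRing C] (c : Spec (CommRingCat.of C) ⟶ S) (φ : K →+* C),
      Spec.map (CommRingCat.ofHom φ) ≫ b = c → D.ca c = 0 ∧ D.cb c = 0 ∧ D.ck c = 0 := fun C _ c φ h => by
    obtain ⟨ha, hb⟩ := D.ca_map b φ h
    rw [h0, map_zero] at ha
    rw [hb0, map_zero] at hb
    exact ⟨ha.symm, hb.symm, by rw [(D.ck_eq c).1, ← hb, mul_zero]⟩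
  have hone : ∀ (C : Type u) [CommRing C] (c : Spec (CommRingCat.of C) ⟶ S) (φ : K →+* C),
      Spec.map (CommRingCat.ofHom φ) ≫ b = c → ∀ v p r q, D.Coord c v p r q → p = 1 ∧ q = 1 :=
    fun C _ c φ h v p r q hc => by
      obtain ⟨ha, hb, hk⟩ := hconst C c φ h
      obtain ⟨e1, e2, e3, e4, -, -⟩ := hc.identities
      rw [ha, hb, hk] at e3
      rw [ha] at e2
      rw [hb] at e1
      exact ⟨by linear_combination e3 - e1, by linear_combination e3 - e2⟩
  have hok : ∀ (C : Type u) [CommRing C] (c : Spec (CommRingCat.of C) ⟶ S) (φ : K →+* C),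
      Spec.map (CommRingCat.ofHom φ) ≫ b = c → ∀ v, D.Ok c v := fun C _ c φ h v => by
    refine L.of_fields D fun F _ _ χ => ?_
    rw [map_one]
    refine D.ok_of_ne_zero _ 0 (fun v p r q hc => ?_) (by simp)
    rw [(hone F _ (χ.comp φ) (by rw [← h, base_comp]) v p r q hc).2]
    simp
  -- the torus coordinate of the universal point
  let bX := lineBase (A := CommRingCat.of K) b
  obtain ⟨p, r, q, hX⟩ := D.exists_coord bX (hok _ bX Polynomial.C rfl Polynomial.X)
  have hσ : Spec.map (CommRingCat.ofHom ((Polynomial.C : K →+* Polynomial K).comp (Polynomial.evalRingHom 0))) ≫ bX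
      = bX := by
    show _ ≫ Spec.map _ ≫ b = Spec.map _ ≫ b
    rw [base_comp]
    congr 3
    ext a; simp
  have hr : r = 1 := by
    have h1 := hX.map _ hσ
    rw [show ((Polynomial.C : K →+* Polynomial K).comp (Polynomial.evalRingHom 0)) Polynomial.X = 0 by simp] at h1
    exact (D.torus_line_const b r _ rfl hσ).symm.trans (h1.unique (D.coord_zero bX)).2.1
  obtain ⟨hp, hq⟩ := hone _ bX Polynomial.C rfl _ _ _ _ hX
  subst hp hq hr
  have hev : Spec.map (CommRingCat.ofHom (Polynomial.eval₂RingHom φ (x * y))) ≫ bX = c := by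
    show _ ≫ Spec.map _ ≫ b = c
    rw [base_comp, show (Polynomial.eval₂RingHom φ (x * y)).comp Polynomial.C = φ from RingHom.ext fun a => by simp, hφ]
  have h1 := hX.map (Polynomial.eval₂RingHom φ (x * y)) hev x y (by simp)
  rw [map_one, mul_one, mul_one, MonObj.comp_one] at h1
  exact h1.trans (by rw [I_one, mul_one])

/-- The opposite lines do not commute at some point over every geometric point of the base. -/
def NonComm : Prop :=
  ∀ s : S, ∃ (C : Type u) (_ : CommRing C) (c : Spec (CommRingCat.of C) ⟶ S)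
    (φ : AlgebraicClosure (S.residueField s) →+* C),
    Spec.map (CommRingCat.ofHom φ) ≫ Red.geomPt s = c ∧ ∃ x y : C, D.P c x * D.M c y ≠ D.M c y * D.P c x

variable {D}

theorem NonComm.ca_ne_zero (hn : D.NonComm) {K : Type u} [Field K] [IsAlgClosed K]
    (b : Spec (CommRingCat.of K) ⟶ S) : D.ca b ≠ 0 := by
  intro h0
  let s := b (IsLocalRing.closedPoint K)
  obtain ⟨φ, hφ⟩ : ∃ φ : S.residueField s →+* K, b = Spec.map (CommRingCat.ofHom φ) ≫ S.fromSpecResidueField s :=
    ⟨(Scheme.descResidueField (Scheme.stalkClosedPointTo b)).hom,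
      (Scheme.descResidueField_stalkClosedPointTo_fromSpecResidueField (K := K) (X := S) b).symm⟩
  let : Algebra (S.residueField s) K := φ.toAlgebra
  let ψ : AlgebraicClosure (S.residueField s) →ₐ[S.residueField s] K := IsAlgClosed.lift
  have hb : Spec.map (CommRingCat.ofHom ψ.toRingHom) ≫ Red.geomPt s = b := by
    rw [hφ, ← Category.assoc, ← Spec.map_comp, ← CommRingCat.ofHom_comp]
    congr 3
    exact RingHom.ext fun r => ψ.commutes r
  have h := (D.ca_map (Red.geomPt s) ψ.toRingHom hb).1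
  rw [h0] at h
  obtain ⟨C, _, c, χ, hc, x, y, hxy⟩ := hn s
  exact hxy (D.commute_of_ca_zero _ ((map_eq_zero _).mp h) c χ hc x y)

theorem isUnit_of_fields {A : Type u} [CommRing A] (a : A)
    (h : ∀ (K : Type u) [Field K] [IsAlgClosed K] (φ : A →+* K), φ a ≠ 0) : IsUnit a := by
  by_contra ha
  obtain ⟨m, hm, hle⟩ := Ideal.exists_le_maximal _ (mt Ideal.span_singleton_eq_top.mp ha)
  letI := Ideal.Quotient.field m
  refine h (AlgebraicClosure (A ⧸ m)) ((algebraMap (A ⧸ m) _).comp (Ideal.Quotient.mk m)) ?_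
  rw [RingHom.comp_apply, map_eq_zero, Ideal.Quotient.eq_zero_iff_mem]
  exact hle (Ideal.mem_span_singleton_self a)

variable {A : Type u} [CommRing A] {b : Spec (CommRingCat.of A) ⟶ S}

theorem NonComm.isUnit_ca (hn : D.NonComm) : IsUnit (D.ca b) ∧ IsUnit (D.cb b) := by
  constructor <;> refine isUnit_of_fields _ fun K _ _ φ => ?_
  · rw [(D.ca_map b φ rfl).1]
    exact hn.ca_ne_zero _
  · rw [(D.ca_map b φ rfl).2]
    exact fun h => hn.ca_ne_zero _ ((D.ca_eq_zero_iff _).mpr h)

theorem NonComm.pre_formula (hn : D.NonComm) {v p : A} {r : Over.mk b ⟶ D.T} {q : A} (h : D.Coord b v p r q) :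
    p * (1 + D.cb b * v) = 1 ∧ q * (1 + D.ca b * v) = 1 ∧ D.ec b r = q ^ 2 ∧
      (D.ca b - D.cb b) * v ^ 2 = 0 := by
  obtain ⟨e1, e2, e3, e4, e5, e6⟩ := h.identities
  obtain ⟨⟨ua, hua⟩, ⟨ub, hub⟩⟩ := hn.isUnit_ca (b := b)
  have he : IsUnit (D.ec b r) := Units.isUnit _
  have hp : IsUnit p := isUnit_of_mul_isUnit_left
    (show IsUnit (p * (1 - D.cb b * v * p)) by convert he using 1; linear_combination -e1)
  have hq : IsUnit q := isUnit_of_mul_isUnit_left
    (show IsUnit (q * (1 - D.ca b * v * q)) by convert he using 1; linear_combination -e2)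
  have h5 : p * (1 + D.cb b * v) = 1 := (ub.isUnit.mul hp).mul_left_cancel (by rw [hub]; linear_combination e5)
  have h6 : q * (1 + D.ca b * v) = 1 := (ua.isUnit.mul hq).mul_left_cancel (by rw [hua]; linear_combination e6)
  refine ⟨h5, h6, by linear_combination e2 - q * h6, ?_⟩
  have hp2 : D.ec b r = p ^ 2 := by linear_combination e1 - p * h5
  rw [hp2, (D.ck_eq b).1] at e3
  have hz : (1 + D.cb b * v) ^ 2 * (p ^ 2 - (1 + -2 * D.cb b * v * p + D.ca b * D.cb b * v ^ 2 * p ^ 2)) = 0 := by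
    rw [sub_eq_zero.mpr e3, mul_zero]
  refine ub.isUnit.mul_left_cancel ?_
  rw [hub, mul_zero]
  linear_combination (-1 : A) * hz +
    ((p * (1 + D.cb b * v) + 1) * (1 - D.ca b * D.cb b * v ^ 2) + 2 * D.cb b * v * (1 + D.cb b * v)) * h5

theorem NonComm.cb_eq_ca (hn : D.NonComm) : D.cb b = D.ca b := by
  obtain ⟨C, _, c, io, ev, x', C', _, j, hio, hev, hsec, hx', hok, hj, hu⟩ :=
    D.exists_unitize b (x := 0) (y := 1) (by simpa using D.ok_zero b)
  rw [map_one, mul_one] at hok
  obtain ⟨p, r, q, hc⟩ := D.exists_coord c hok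
  have h := congrArg j (hn.pre_formula hc).2.2.2
  rw [map_mul, map_pow, map_zero, (hu.pow 2).mul_left_eq_zero, ← map_zero j] at h
  have h2 := congrArg ev (hj h)
  rw [map_sub, map_zero, (D.ca_map c ev hev).1, (D.ca_map c ev hev).2, sub_eq_zero] at h2
  exact h2.symm

/-- The coordinates of a rank-one system. -/
theorem NonComm.formula (hn : D.NonComm) {v p : A} {r : Over.mk b ⟶ D.T} {q : A} (h : D.Coord b v p r q) :
    p = q ∧ q * (1 + D.ca b * v) = 1 ∧ D.ec b r = q ^ 2 := by
  obtain ⟨h5, h6, he, -⟩ := hn.pre_formula h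
  rw [hn.cb_eq_ca] at h5
  exact ⟨left_inv_eq_right_inv h5 (by rw [mul_comm]; exact h6), h6, he⟩

theorem NonComm.ok_iff (hn : D.NonComm) (v : A) : D.Ok b v ↔ IsUnit (1 + D.ca b * v) := by
  constructor
  · intro h
    obtain ⟨p, r, q, hc⟩ := D.exists_coord b h
    exact IsUnit.of_mul_eq_one _ ((mul_comm _ _).trans (hn.formula hc).2.1)
  · intro h
    refine L.of_fields D fun K _ _ φ => ?_
    rw [map_one]
    refine D.ok_of_ne_zero _ (D.ca _) (fun w p r q hc => (hn.formula hc).2.1) ?_
    rw [← (D.ca_map b φ rfl).1, ← map_mul, ← map_one φ, ← map_add]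
    exact (h.map φ).ne_zero

end Groth.Agent.RankOneComm.Dat
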